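import Mathlib
import Cfsg.Agent.Lib.Chev.CertG2
import Cfsg.Agent.Lib.Chev.CertB2
import Cfsg.Agent.Lib.Chev.CertD4
import Cfsg.Agent.Lib.Chev.CertF4
import Cfsg.Agent.Lib.Chev.CertE6
import Cfsg.Agent.Lib.Stein.RootMap
import Cfsg.Agent.Lib.Stein.FieldMap

/-!
Graph automorphisms of the Chevalley groups.
-/

set_option autoImplicit false

namespace CfsgLib.Stein

open Cfsg.Lie CfsgLib.RGD CfsgLib.Weyl CfsgLib.Chev

variable {K : Type*} [Field K]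

theorem groupMap_xG {D : ChevalleyDatum} [Good D] {K' : Type*} [Field K'] (f : K →+* K') (r : ℕ) (t : K) :
    groupMap D f (xG D K r t) = xG D K' r (f t) :=
  eq_xG_iff.1 (by rw [groupMap_val]; exact x_map D f r t)

theorem groupEquiv_xG {D : ChevalleyDatum} [Good D] {K' : Type*} [Field K'] (f : K ≃+* K') (r : ℕ) (t : K) :
    groupEquiv D f (xG D K r t) = xG D K' r (f t) :=
  eq_xG_iff.1 (groupEquiv_x D f _ r t rfl)

/-- the check that two root maps are inverse to each other up to the `q`-th power map -/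
def invChk (n q : ℕ) (φ φ' : ℕ → ℕ) (ε ε' : ℕ → ℤ) (e e' : ℕ → ℕ) : Bool :=
  Chev.allLt n fun r => decide (φ' (φ r) = r ∧ φ (φ' r) = r ∧ ε' (φ r) * ε r ^ e' (φ r) = 1 ∧ e r * e' (φ r) = q ∧
    (e r = 1 ∨ e r = q) ∧ (e' r = 1 ∨ e' r = q) ∧ (ε r = 1 ∨ ε r = -1) ∧ (ε' r = 1 ∨ ε' r = -1))

theorem exists_graph_hom {D : ChevalleyDatum} [Good D] (h : RtOK D) (hg : GenOK D) {T : Tab} (hT : Match D T)
    {p q : ℕ} {φ φ' : ℕ → ℕ} {ε : ℕ → ℤ} {e : ℕ → ℕ} (hc : ∀ r < D.nroots, MapOK T T p φ ε e r) (hp : (p : K) = 0)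
    (f : K ≃+* K) (hf : ∀ t, f t = t ^ q) (h1 : ∀ r < D.nroots, φ' r < D.nroots ∧ φ (φ' r) = r)
    (h2 : ∀ r < D.nroots, (e r = 1 ∨ e r = q) ∧ (ε r = 1 ∨ ε r = -1)) :
    ∃ α : D.group K →* D.group K, Function.Surjective α ∧
      ∀ r < D.nroots, ∀ t, α (xG D K r t) = xG D K (φ r) (ε r * t ^ e r) := by
  have hy := (rel12_xG (K := K) h).transport h h hT hT hc hp fun r hr t u => by
    rcases (h2 r hr).1 with e | e
    · simp [e]
    · rw [e, ← hf, ← hf, ← hf, map_add]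
  have hs : ∀ k < D.nroots, ∀ u : K, ∃ r < D.nroots, ∃ t : K, xG D K (φ r) (ε r * t ^ e r) = xG D K k u := by
    intro k hk u
    obtain ⟨h3, h4⟩ := h1 k hk
    obtain ⟨h5, h6⟩ := h2 _ h3
    have : ∀ v : K, ∃ t, t ^ e (φ' k) = v := fun v => by
      rcases h5 with e | e
      · exact ⟨v, by simp [e]⟩
      · exact ⟨f.symm v, by rw [e, ← hf]; simp⟩
    obtain ⟨t, ht⟩ := this (ε (φ' k) * u)
    refine ⟨_, h3, t, ?_⟩
    rw [ht, h4]
    rcases h6 with e | e <;> simp [e]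
  obtain ⟨α, hα⟩ := exists_hom_group h hg hy fun z _ hz => eq_one_of_commute h fun k hk u => by
    obtain ⟨r, hr, t, e⟩ := hs k hk u
    rw [← e]; exact hz r hr t
  refine ⟨α, ?_, hα⟩
  rw [← MonoidHom.range_eq_top]
  refine induction_of_UUx UUx_xG_eq_top fun k hk u => ?_
  obtain ⟨r, hr, t, e⟩ := hs k hk u
  exact ⟨_, (hα r hr t).trans e⟩

theorem exists_graph_equiv {D : ChevalleyDatum} [Good D] (h : RtOK D) (hg : GenOK D) {T : Tab} (hT : Match D T)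
    {n p q : ℕ} (hn : D.nroots = n) {φ φ' : ℕ → ℕ} {ε ε' : ℕ → ℤ} {e e' : ℕ → ℕ}
    (hc : mapChk T T p φ ε e 0 n = true) (hc' : mapChk T T p φ' ε' e' 0 n = true)
    (hi : invChk n q φ φ' ε ε' e e' = true) (hp : (p : K) = 0) (f : K ≃+* K) (hf : ∀ t, f t = t ^ q) :
    ∃ α : D.group K ≃* D.group K, ∀ r < D.nroots, ∀ t, α (xG D K r t) = xG D K (φ r) (ε r * t ^ e r) := by
  subst hn
  have h1 := fun r hr => mapOK_of_chk hc r (Nat.zero_le _) (by rwa [zero_add])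
  have h1' := fun r hr => mapOK_of_chk hc' r (Nat.zero_le _) (by rwa [zero_add])
  have h2 := fun r hr => of_decide_eq_true (Chev.allLt_spec hi r hr)
  have h3 : ∀ r < D.nroots, φ r < D.nroots := fun r hr => hT.hn ▸ (h1 r hr).1
  have h3' : ∀ r < D.nroots, φ' r < D.nroots := fun r hr => hT.hn ▸ (h1' r hr).1
  obtain ⟨α, hs, hα⟩ := exists_graph_hom h hg hT (φ' := φ') h1 hp f hf (fun r hr => ⟨h3' r hr, (h2 r hr).2.1⟩)
    fun r hr => ⟨(h2 r hr).2.2.2.2.1, (h2 r hr).2.2.2.2.2.2.1⟩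
  obtain ⟨β, -, hβ⟩ := exists_graph_hom h hg hT (φ' := φ) h1' hp f hf (fun r hr => ⟨h3 r hr, (h2 r hr).1⟩)
    fun r hr => ⟨(h2 r hr).2.2.2.2.2.1, (h2 r hr).2.2.2.2.2.2.2⟩
  have : β.comp α = (groupEquiv D f).toMonoidHom := hom_ext_xG fun r hr t => by
    obtain ⟨e1, -, e2, e3, -⟩ := h2 r hr
    have e4 := congrArg (Int.cast : ℤ → K) e2
    push_cast at e4
    rw [MonoidHom.comp_apply, hα r hr, hβ _ (h3 r hr), e1, mul_pow, ← mul_assoc, e4, ← pow_mul, e3, one_mul, ← hf]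
    exact (groupEquiv_xG f r t).symm
  have hinj : Function.Injective α := by
    apply Function.Injective.of_comp (f := β)
    rw [← MonoidHom.coe_comp, this]
    exact (groupEquiv D f).injective
  exact ⟨MulEquiv.ofBijective α ⟨hinj, hs⟩, hα⟩

theorem genOKG2 : GenOK chevG2 := genOK_of_chk _ (by decide +kernel)
theorem genOKB2 : GenOK chevB2 := genOK_of_chk _ (by decide +kernel)
theorem genOKD4 : GenOK chevD4 := genOK_of_chk _ (by decide +kernel)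
theorem genOKF4 : GenOK chevF4 := genOK_of_chk _ (by decide +kernel)
theorem genOKE6 : GenOK chevE6 := genOK_of_chk _ (by decide +kernel)

/-- the `p`-th power map of a perfect field as an automorphism -/
theorem exists_frob (p : ℕ) [Fact p.Prime] [CharP K p] (hperf : ∀ x : K, ∃ y : K, y ^ p = x) :
    ∃ f : K ≃+* K, ∀ t, f t = t ^ p :=
  ⟨RingEquiv.ofBijective (frobenius K p) ⟨(frobenius K p).injective, hperf⟩, fun _ => rfl⟩

/-- the graph automorphism of `E₆`: the permutation of the roots -/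
def rhoE6 (r : ℕ) : ℕ := [0, 1, 2, 5, 16, 3, 6, 17, 8, 19, 22, 11, 26, 30, 33, 35, 4, 7, 18, 9, 20, 23, 10, 21, 24, 25, 12, 27, 31, 34, 13, 28, 32, 14, 29, 15, 56, 42, 57, 39, 43, 58, 37, 40, 44, 59, 46, 47, 50, 61, 48, 51, 62, 53, 64, 67, 36, 38, 41, 45, 60, 49, 52, 63, 54, 65, 68, 55, 66, 69, 70, 71].getD r 0

/-- the graph automorphism of `E₆`: the signs -/
def epsE6 (r : ℕ) : ℤ := [1, 1, 1, 1, -1, 1, 1, -1, 1, -1, -1, 1, -1, 1, -1, 1, -1, -1, 1, -1, 1, 1, -1, 1, 1, 1, -1, 1, -1, 1, 1, -1, 1, -1, 1, 1, 1, 1, -1, 1, -1, 1, 1, -1, 1, -1, 1, 1, 1, -1, 1, 1, -1, 1, -1, -1, 1, -1, 1, -1, 1, -1, -1, 1, -1, 1, 1, -1, 1, 1, 1, 1].getD r 0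

theorem mapE6 : mapChk fastE6 fastE6 0 rhoE6 epsE6 (fun _ => 1) 0 72 = true := by decide +kernel

theorem exists_graphE6 : ∃ α : chevE6.group K ≃* chevE6.group K,
    ∀ r < chevE6.nroots, ∀ t, α (xG chevE6 K r t) = xG chevE6 K (rhoE6 r) (epsE6 r * t) := by
  simpa only [pow_one] using exists_graph_equiv (K := K) rtOKE6 genOKE6 matchE6 (q := 1) rfl mapE6 mapE6
    (by decide +kernel) Nat.cast_zero (RingEquiv.refl K) (by simp)

/-- the triality `0 ↦ 2 ↦ 3 ↦ 0` of `D₄`: the permutation of the roots -/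
def rhoD4a (r : ℕ) : ℕ := [0, 1, 6, 2, 7, 10, 3, 8, 4, 9, 11, 5, 18, 12, 14, 19, 15, 20, 13, 16, 21, 17, 22, 23].getD r 0

/-- the triality `0 ↦ 2 ↦ 3 ↦ 0` of `D₄`: the signs -/
def epsD4a (r : ℕ) : ℤ := [1, 1, -1, 1, -1, 1, -1, 1, -1, 1, 1, 1, 1, 1, 1, -1, 1, -1, 1, -1, 1, -1, 1, 1].getD r 0

theorem mapD4a : mapChk fastD4 fastD4 0 rhoD4a epsD4a (fun _ => 1) 0 24 = true := by decide +kernel

/-- the triality `0 ↦ 3 ↦ 2 ↦ 0` of `D₄`: the permutation of the roots -/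
def rhoD4b (r : ℕ) : ℕ := [0, 1, 3, 6, 8, 11, 2, 4, 7, 9, 5, 10, 13, 18, 14, 16, 19, 21, 12, 15, 17, 20, 22, 23].getD r 0

/-- the triality `0 ↦ 3 ↦ 2 ↦ 0` of `D₄`: the signs -/
def epsD4b (r : ℕ) : ℤ := [1, 1, 1, -1, -1, 1, -1, -1, 1, 1, 1, 1, 1, 1, 1, 1, -1, -1, 1, -1, -1, 1, 1, 1].getD r 0

theorem mapD4b : mapChk fastD4 fastD4 0 rhoD4b epsD4b (fun _ => 1) 0 24 = true := by decide +kernel

theorem exists_graphD4a : ∃ α : chevD4.group K ≃* chevD4.group K,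
    ∀ r < chevD4.nroots, ∀ t, α (xG chevD4 K r t) = xG chevD4 K (rhoD4a r) (epsD4a r * t) := by
  simpa only [pow_one] using exists_graph_equiv (K := K) rtOKD4 genOKD4 matchD4 (q := 1) rfl mapD4a mapD4b
    (by decide +kernel) Nat.cast_zero (RingEquiv.refl K) (by simp)

theorem exists_graphD4b : ∃ α : chevD4.group K ≃* chevD4.group K,
    ∀ r < chevD4.nroots, ∀ t, α (xG chevD4 K r t) = xG chevD4 K (rhoD4b r) (epsD4b r * t) := by
  simpa only [pow_one] using exists_graph_equiv (K := K) rtOKD4 genOKD4 matchD4 (q := 1) rfl mapD4b mapD4a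
    (by decide +kernel) Nat.cast_zero (RingEquiv.refl K) (by simp)

/-- the symmetry `(2 3)` of `D₄`: the permutation of the roots -/
def rhoD4s23 (r : ℕ) : ℕ := [0, 1, 3, 2, 4, 5, 6, 8, 7, 9, 11, 10, 13, 12, 14, 16, 15, 17, 18, 19, 21, 20, 22, 23].getD r 0

/-- the symmetry `(2 3)` of `D₄`: the signs -/
def epsD4s23 (r : ℕ) : ℤ := [1, 1, 1, 1, 1, 1, 1, 1, 1, 1, 1, 1, 1, 1, 1, 1, 1, 1, 1, 1, 1, 1, 1, 1].getD r 0

theorem mapD4s23 : mapChk fastD4 fastD4 0 rhoD4s23 epsD4s23 (fun _ => 1) 0 24 = true := by decide +kernel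

theorem exists_graphD4s23 : ∃ α : chevD4.group K ≃* chevD4.group K,
    ∀ r < chevD4.nroots, ∀ t, α (xG chevD4 K r t) = xG chevD4 K (rhoD4s23 r) (epsD4s23 r * t) := by
  simpa only [pow_one] using exists_graph_equiv (K := K) rtOKD4 genOKD4 matchD4 (q := 1) rfl mapD4s23 mapD4s23
    (by decide +kernel) Nat.cast_zero (RingEquiv.refl K) (by simp)

/-- the symmetry `(0 2)` of `D₄`: the permutation of the roots -/
def rhoD4s02 (r : ℕ) : ℕ := [0, 1, 2, 6, 7, 10, 3, 4, 8, 9, 5, 11, 12, 18, 14, 15, 19, 20, 13, 16, 17, 21, 22, 23].getD r 0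

/-- the symmetry `(0 2)` of `D₄`: the signs -/
def epsD4s02 (r : ℕ) : ℤ := [1, 1, 1, -1, -1, 1, -1, -1, 1, 1, 1, 1, 1, 1, 1, 1, -1, -1, 1, -1, -1, 1, 1, 1].getD r 0

theorem mapD4s02 : mapChk fastD4 fastD4 0 rhoD4s02 epsD4s02 (fun _ => 1) 0 24 = true := by decide +kernel

theorem exists_graphD4s02 : ∃ α : chevD4.group K ≃* chevD4.group K,
    ∀ r < chevD4.nroots, ∀ t, α (xG chevD4 K r t) = xG chevD4 K (rhoD4s02 r) (epsD4s02 r * t) := by
  simpa only [pow_one] using exists_graph_equiv (K := K) rtOKD4 genOKD4 matchD4 (q := 1) rfl mapD4s02 mapD4s02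
    (by decide +kernel) Nat.cast_zero (RingEquiv.refl K) (by simp)

/-- the symmetry `(0 3)` of `D₄`: the permutation of the roots -/
def rhoD4s03 (r : ℕ) : ℕ := [0, 1, 6, 3, 8, 11, 2, 7, 4, 9, 10, 5, 18, 13, 14, 19, 16, 21, 12, 15, 20, 17, 22, 23].getD r 0

/-- the symmetry `(0 3)` of `D₄`: the signs -/
def epsD4s03 (r : ℕ) : ℤ := [1, 1, -1, 1, -1, 1, -1, 1, -1, 1, 1, 1, 1, 1, 1, -1, 1, -1, 1, -1, 1, -1, 1, 1].getD r 0

theorem mapD4s03 : mapChk fastD4 fastD4 0 rhoD4s03 epsD4s03 (fun _ => 1) 0 24 = true := by decide +kernel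

theorem exists_graphD4s03 : ∃ α : chevD4.group K ≃* chevD4.group K,
    ∀ r < chevD4.nroots, ∀ t, α (xG chevD4 K r t) = xG chevD4 K (rhoD4s03 r) (epsD4s03 r * t) := by
  simpa only [pow_one] using exists_graph_equiv (K := K) rtOKD4 genOKD4 matchD4 (q := 1) rfl mapD4s03 mapD4s03
    (by decide +kernel) Nat.cast_zero (RingEquiv.refl K) (by simp)

/-- the graph automorphism of `B2`: the permutation of the roots -/
def rhoB2 (r : ℕ) : ℕ := [1, 0, 3, 2, 5, 4, 7, 6].getD r 0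

/-- the graph automorphism of `B2`: the exponents (`2` on short roots, `1` on long roots) -/
def expB2 (r : ℕ) : ℕ := [1, 2, 2, 1, 1, 2, 2, 1].getD r 0

theorem mapB2 : mapChk fastB2 fastB2 2 rhoB2 (fun _ => 1) expB2 0 8 = true := by decide +kernel

theorem exists_graphB2 [CharP K 2] (hperf : ∀ x : K, ∃ y : K, y ^ 2 = x) : ∃ α : chevB2.group K ≃* chevB2.group K,
    ∀ r < chevB2.nroots, ∀ t, α (xG chevB2 K r t) = xG chevB2 K (rhoB2 r) (t ^ expB2 r) := by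
  have : Fact (Nat.Prime 2) := ⟨by norm_num⟩
  obtain ⟨f, hf⟩ := exists_frob 2 hperf
  simpa only [Int.cast_one, one_mul] using exists_graph_equiv (K := K) rtOKB2 genOKB2 matchB2 (q := 2) rfl mapB2
    mapB2 (by decide +kernel) (CharP.cast_eq_zero K 2) f hf

/-- the graph automorphism of `F4`: the permutation of the roots -/
def rhoF4 (r : ℕ) : ℕ := [3, 7, 8, 0, 9, 11, 18, 1, 2, 4, 15, 5, 16, 21, 23, 10, 12, 19, 6, 17, 22, 13, 20, 14, 33, 27, 34, 25, 30, 41, 28, 35, 37, 24, 26, 31, 42, 32, 43, 45, 46, 29, 36, 38, 47, 39, 40, 44].getD r 0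

/-- the graph automorphism of `F4`: the exponents (`2` on short roots, `1` on long roots) -/
def expF4 (r : ℕ) : ℕ := [1, 1, 1, 2, 1, 1, 1, 2, 2, 2, 2, 2, 2, 2, 2, 1, 1, 1, 2, 2, 2, 1, 1, 1, 1, 1, 1, 2, 2, 2, 1, 1, 1, 2, 2, 2, 2, 2, 2, 2, 2, 1, 1, 1, 2, 1, 1, 1].getD r 0

theorem mapF4 : mapChk fastF4 fastF4 2 rhoF4 (fun _ => 1) expF4 0 48 = true := by decide +kernel

theorem exists_graphF4 [CharP K 2] (hperf : ∀ x : K, ∃ y : K, y ^ 2 = x) : ∃ α : chevF4.group K ≃* chevF4.group K,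
    ∀ r < chevF4.nroots, ∀ t, α (xG chevF4 K r t) = xG chevF4 K (rhoF4 r) (t ^ expF4 r) := by
  have : Fact (Nat.Prime 2) := ⟨by norm_num⟩
  obtain ⟨f, hf⟩ := exists_frob 2 hperf
  simpa only [Int.cast_one, one_mul] using exists_graph_equiv (K := K) rtOKF4 genOKF4 matchF4 (q := 2) rfl mapF4
    mapF4 (by decide +kernel) (CharP.cast_eq_zero K 2) f hf

/-- the graph automorphism of `G2`: the permutation of the roots -/
def rhoG2 (r : ℕ) : ℕ := [2, 3, 0, 1, 5, 4, 7, 6, 10, 11, 8, 9].getD r 0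

/-- the graph automorphism of `G2`: the exponents (`3` on short roots, `1` on long roots) -/
def expG2 (r : ℕ) : ℕ := [1, 1, 3, 3, 3, 1, 1, 3, 3, 3, 1, 1].getD r 0

theorem mapG2 : mapChk fastG2 fastG2 3 rhoG2 (fun _ => 1) expG2 0 12 = true := by decide +kernel

theorem exists_graphG2 [CharP K 3] (hperf : ∀ x : K, ∃ y : K, y ^ 3 = x) : ∃ α : chevG2.group K ≃* chevG2.group K,
    ∀ r < chevG2.nroots, ∀ t, α (xG chevG2 K r t) = xG chevG2 K (rhoG2 r) (t ^ expG2 r) := by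
  have : Fact (Nat.Prime 3) := ⟨by norm_num⟩
  obtain ⟨f, hf⟩ := exists_frob 3 hperf
  simpa only [Int.cast_one, one_mul] using exists_graph_equiv (K := K) rtOKG2 genOKG2 matchG2 (q := 3) rfl mapG2
    mapG2 (by decide +kernel) (CharP.cast_eq_zero K 3) f hf

end CfsgLib.Stein
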