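import Mathlib
import Cfsg.Agent.Lib.Stein.Exc
import Cfsg.Agent.Lib.Stein.TypeC
import Cfsg.Agent.Lib.Chev.Cert

/-!
Lifts of the root elements of the Chevalley group of type `B₂`, and of all types over fields with more than four
elements.
-/

set_option autoImplicit false

namespace CfsgLib.Stein

open Cfsg.Lie CfsgLib.RGD CfsgLib.Weyl CfsgLib.Chev CfsgLib.Schur

/-- the relation `Hf` on the tables -/
def HfT (a b k : ℕ) : Prop := ipT 2 8 tAB2 a a = 2 * 2 ∧ ipT 2 8 tAB2 b b = 2 * 2 ∧ ipT 2 8 tAB2 a b = 0 ∧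
  ∀ j : Fin 2, 2 * rt chevB2 k j = rt chevB2 a j + rt chevB2 b j

instance (a b k : ℕ) : Decidable (HfT a b k) := by unfold HfT; infer_instance

theorem keyB2 : ∀ r b k a : Fin chevB2.nroots, HfT r b k → HfT r (chevB2.neg b) a →
    a.1 ≠ b ∧ a.1 ≠ chevB2.neg b ∧ ∃ c ∈ [(1 : ℤ), -1], ∃ c' ∈ [(1 : ℤ), -1],
      chevB2.commTerms b a = [(k.1, c, 1, 1), (r.1, c', 1, 2)] := by decide +kernel

theorem keyB2' : ∀ r b k a : Fin chevB2.nroots, HfT r b k → HfT r (chevB2.neg b) a →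
    a.1 ≠ k ∧ a.1 ≠ chevB2.neg k ∧ ∃ c ∈ [(1 : ℤ), -1], chevB2.commTerms k a = [(r.1, 2 * c, 1, 1)] := by
  decide +kernel

theorem cast_ne_zero_of_mem {K : Type*} [Field K] {c : ℤ} (h : c ∈ [(1 : ℤ), -1]) : (c : K) ≠ 0 := by
  simp only [List.mem_cons, List.not_mem_nil, or_false] at h
  rcases h with rfl | rfl <;> simp

section

variable {D : ChevalleyDatum} [Good D] (h : RtOK D) (hg : GenOK D) {K : Type*} [Field K] {a b k r : Fin D.nroots}
  (h1 : a.1 ≠ b) (h2 : a.1 ≠ D.neg b)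
include h1 h2

theorem gSys_cm (t u : K) :
    cm ((gSys K h hg).x a t) ((gSys K h hg).x b u) = wordG (xG D K) (D.commWord K b a u t) :=
  (rel12_xG h).comm b b.2 a a.2 h1 h2 u t

theorem gSys_cm_one {c : ℤ} (e : D.commTerms b a = [(r.1, c, 1, 1)]) (t u : K) :
    cm ((gSys K h hg).x a t) ((gSys K h hg).x b u) = (gSys K h hg).x r (-c * u * t) := by
  rw [gSys_cm h hg h1 h2, Cover.sys_x]
  simp [ChevalleyDatum.commWord, e, wordG]

theorem gSys_ex2 {c c' : ℤ} (hc : (c : K) ≠ 0) (hc' : (c' : K) ≠ 0)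
    (e : D.commTerms b a = [(k.1, c, 1, 1), (r.1, c', 1, 2)]) : Ex2 (gSys K h hg) a b k r := fun t ht =>
  ⟨-c * t, -c' * t ^ 2, by simp [ht, hc], by simp [ht, hc'], fun u => by
    rw [gSys_cm h hg h1 h2, Cover.sys_x, Cover.sys_x]
    simp [ChevalleyDatum.commWord, e, wordG, mul_right_comm]⟩

end

variable (h : RtOK chevB2)

theorem hf_iff {a b k : Fin chevB2.nroots} : Hf (rootSys h) 2 a b k ↔ HfT a b k := by
  simp only [HfT, ← show ∀ r s, _ = ipT 2 8 tAB2 _ _ from ip_rootSys h tablesOKB2]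
  exact ⟨fun H => ⟨H.1, H.2, H.3, H.4⟩, fun H => ⟨H.1, H.2.1, H.2.2.1, H.2.2.2⟩⟩

theorem cSys_B2 : CSys (rootSys h) 2 := by
  constructor <;> simp only [hf_iff, ip_rootSys h tablesOKB2, Fin.ext_iff, rootSys_neg] <;> decide +kernel

variable [Good chevB2] (hg : GenOK chevB2) {K : Type*} [Field K]

theorem cRel_B2 : CRel (gSys K h hg) 2 := by
  refine ⟨fun {r b k a} h1 h2 => ?_, fun h0 r b k a h1 h2 t u => ?_, fun h0 r b k a h1 h2 u hu => ?_⟩ <;>
    rw [hf_iff] at h1 h2 <;> rw [rootSys_neg] at h2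
  · obtain ⟨k1, k2, c, hc, c', hc', k3⟩ := keyB2 r b k a h1 h2
    exact gSys_ex2 h hg k1 k2 (cast_ne_zero_of_mem hc) (cast_ne_zero_of_mem hc') k3
  · obtain ⟨k1, k2, c, -, k3⟩ := keyB2' r b k a h1 h2
    rw [← cm_eq_one_iff, gSys_cm_one h hg k1 k2 k3, Int.cast_mul, Int.cast_two, h0, zero_mul, neg_zero, zero_mul,
      zero_mul, StSys.x_zero]
  · obtain ⟨k1, k2, c, hc, k3⟩ := keyB2' r b k a h1 h2
    exact ⟨_, by simp [h0, cast_ne_zero_of_mem hc, hu], fun t => gSys_cm_one h hg k1 k2 k3 t u⟩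

theorem hasLifts_B2 (hK : ∃ c : K, c ≠ 0 ∧ c ≠ 1) : HasLifts (gSys K h hg) := fun _ _ _ hπ =>
  (cSys_B2 h).lifts (gSys_nondeg h hg) (gSys_r3 h hg) ((cover_id h).sys_hRule h hg) hπ (cRel_B2 h hg) hK

omit [Good chevB2] in
theorem hasLifts_of_big {D : ChevalleyDatum} (hD : D ∈ [chevG2, chevB2, chevD4, chevF4, chevE6, chevE7, chevE8])
    [Good D] (h : RtOK D) (hg : GenOK D) (hK : ∃ s : Finset K, 4 < s.card) : HasLifts (gSys K h hg) := by
  have hK' : ∃ c : K, c ≠ 0 ∧ c ≠ 1 := by simpa using exists_pow_ne_one hK le_rfl (by omega)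
  simp only [List.mem_cons, List.not_mem_nil, or_false] at hD
  rcases hD with rfl | rfl | rfl | rfl | rfl | rfl | rfl
  exacts [hasLifts_G2 h hg hK, hasLifts_B2 h hg hK', hasLifts_D4 h hg hK', hasLifts_F4 h hg hK', hasLifts_E6 h hg,
    hasLifts_E7 h hg, hasLifts_E8 h hg]

end CfsgLib.Stein
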