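import Mathlib
import Cfsg.Agent.Lib.Chev.CertE6
import Cfsg.Agent.Lib.Chev.CertE7
import Cfsg.Agent.Lib.Chev.CertE8
import Cfsg.Agent.Lib.Stein.Center

/-!
The subsystems `E₆ ⊆ E₇ ⊆ E₈`.
-/

set_option autoImplicit false

namespace CfsgLib.Stein

open Cfsg.Lie CfsgLib.RGD CfsgLib.Weyl CfsgLib.Chev

variable {K : Type*} [Field K] {G : Type*} [Group G]

/-- transport of the relations to a subsystem without signs -/
theorem rel_sub {D D' : ChevalleyDatum} [Good D] [Good D'] (h : RtOK D) (h' : RtOK D') {T T' : Tab}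
    (hT : Match D T) (hT' : Match D' T') {φ : ℕ → ℕ} (hc : ∀ r < D.nroots, MapOK T T' 0 φ (fun _ => 1) (fun _ => 1) r)
    {y : ℕ → K → G} (hy : Rel12 D' y) : Rel12 D fun r t => y (φ r) t := by
  simpa using hy.transport h h' hT hT' hc Nat.cast_zero (by simp)

theorem hG_sub {D D' : ChevalleyDatum} {φ : ℕ → ℕ} (y : ℕ → K → G) {r : ℕ} (h1 : φ (D.neg r) = D'.neg (φ r)) (t : K) :
    hG D (fun r t => y (φ r) t) r t = hG D' y (φ r) t := by
  simp only [hG, nG, h1]

theorem rel3_sub {D D' : ChevalleyDatum} {φ : ℕ → ℕ} {y : ℕ → K → G} (hy : Rel3 D' y)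
    (h0 : ∀ r < D.nroots, φ r < D'.nroots ∧ φ (D.neg r) = D'.neg (φ r)) : Rel3 D fun r t => y (φ r) t := by
  intro r hr t u ht hu
  simp only [hG_sub y (h0 r hr).2]
  exact hy _ (h0 r hr).1 t u ht hu

/-- a fundamental weight of the subsystem which is a root of the large system detects a coordinate of `H̄` -/
theorem eq_one_of_hList {D D' : ChevalleyDatum} [Good D] [Good D'] (h : RtOK D) (h' : RtOK D') {T T' : Tab}
    (hT : Match D T) (hT' : Match D' T') {φ : ℕ → ℕ} (hc : ∀ r < D.nroots, MapOK T T' 0 φ (fun _ => 1) (fun _ => 1) r)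
    (h0 : ∀ r < D.nroots, φ r < D'.nroots ∧ φ (D.neg r) = D'.neg (φ r)) (k : Fin D.rank) {s : ℕ}
    (hs : s < D'.nroots) (hk : ∀ i : Fin D.rank, D'.pairing (φ (D.simple i)) s = if i = k then -1 else 0)
    (t : Fin D.rank → Kˣ) (ht : hList D (D.stGen K) t = 1) : t k = 1 := by
  obtain ⟨ψ, hψ⟩ := exists_hom_steinberg h (rel_sub h h' hT hT' hc (rel12_xU (K := K))) (rel3_sub rel3_xU h0)
  have key : ∀ L : List (Fin D.rank), ψ (L.map fun i : Fin D.rank => hG D (D.stGen K) (D.simple i) (t i)).prod *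
      xU D' K s 1 * (ψ (L.map fun i : Fin D.rank => hG D (D.stGen K) (D.simple i) (t i)).prod)⁻¹ =
      xU D' K s ((L.map fun i : Fin D.rank => t i ^ D'.pairing (φ (D.simple i)) s).prod : Kˣ) := by
    intro L
    induction L with
    | nil => simp
    | cons i L ih =>
      have hi := simple_lt i.2
      rw [List.map_cons, List.prod_cons, map_mul, map_hG h.root _ _ ψ hψ hi, hG_sub _ (h0 _ hi).2, mul_inv_rev,
        List.map_cons, List.prod_cons, Units.val_mul, Units.val_zpow_eq_zpow_val,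
        ← hU_conj_xU (h0 _ hi).1 (t i).ne_zero, ← ih]
      simp only [mul_assoc]
      rfl
  have := key (List.finRange D.rank)
  unfold hList at ht
  rw [ht, map_one, inv_one, one_mul, mul_one,
    map_prod_eq_prod (List.nodup_finRange _) List.mem_finRange] at this
  have := xU_injective hs this
  simpa [hk] using this.symm

/-- the roots of `E₆` among those of `E₇` -/
def sub67 (r : ℕ) : ℕ := [6, 10, 13, 15, 16, 19, 21, 22, 24, 25, 26, 28, 29, 30, 31, 32, 35, 37, 38, 40, 41, 42, 44, 45, 46, 47, 49, 50, 51, 52, 54, 55, 56, 58, 59, 61, 64, 66, 67, 69, 70, 71, 73, 74, 75, 76, 78, 79, 80, 81, 83, 84, 85, 87, 88, 90, 93, 94, 95, 96, 97, 99, 100, 101, 103, 104, 106, 109, 110, 112, 115, 119].getD r 0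

/-- the roots of `E₇` among those of `E₈` -/
def sub78 (r : ℕ) : ℕ := [13, 20, 25, 29, 32, 34, 35, 39, 42, 44, 45, 48, 50, 51, 53, 54, 55, 58, 60, 61, 63, 64, 65, 67, 68, 69, 70, 72, 73, 74, 75, 76, 77, 80, 82, 83, 85, 86, 87, 89, 90, 91, 92, 94, 95, 96, 97, 98, 100, 101, 102, 103, 104, 106, 107, 108, 109, 111, 112, 113, 115, 116, 118, 121, 123, 124, 126, 127, 128, 130, 131, 132, 133, 135, 136, 137, 138, 139, 141, 142, 143, 144, 145, 147, 148, 149, 150, 152, 153, 154, 156, 157, 159, 162, 163, 164, 165, 166, 167, 169, 170, 171, 172, 174, 175, 176, 178, 179, 181, 184, 185, 186, 188, 189, 191, 194, 195, 197, 200, 204, 205, 207, 210, 214, 219, 226].getD r 0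

theorem map67 : mapChk fastE6 fastE7 0 sub67 (fun _ => 1) (fun _ => 1) 0 72 = true := by decide +kernel

theorem map78_0 : mapChk fastE7 fastE8 0 sub78 (fun _ => 1) (fun _ => 1) 0 42 = true := by decide +kernel

theorem map78_42 : mapChk fastE7 fastE8 0 sub78 (fun _ => 1) (fun _ => 1) 42 42 = true := by decide +kernel

theorem map78_84 : mapChk fastE7 fastE8 0 sub78 (fun _ => 1) (fun _ => 1) 84 42 = true := by decide +kernel

theorem mapOK67 : ∀ r < chevE6.nroots, MapOK fastE6 fastE7 0 sub67 (fun _ => 1) (fun _ => 1) r :=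
  fun r hr => mapOK_of_chk map67 r (Nat.zero_le _) hr

theorem mapOK78 : ∀ r < chevE7.nroots, MapOK fastE7 fastE8 0 sub78 (fun _ => 1) (fun _ => 1) r := by
  intro r hr
  change r < 126 at hr
  by_cases h1 : r < 42
  · exact mapOK_of_chk map78_0 r (by omega) (by omega)
  by_cases h2 : r < 84
  · exact mapOK_of_chk map78_42 r (by omega) (by omega)
  · exact mapOK_of_chk map78_84 r (by omega) (by omega)

theorem neg67 : ∀ r < chevE6.nroots, sub67 r < chevE7.nroots ∧ sub67 (chevE6.neg r) = chevE7.neg (sub67 r) := by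
  decide +kernel

theorem neg78 : ∀ r < chevE7.nroots, sub78 r < chevE8.nroots ∧ sub78 (chevE7.neg r) = chevE8.neg (sub78 r) := by
  decide +kernel

end CfsgLib.Stein
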