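import Mathlib
import Cfsg.Agent.Lib.Stein.Abs

/-!
Over a finite field the relations (R3) follow from the others.
-/

set_option autoImplicit false

namespace CfsgLib.Stein

open CfsgLib.RGD

variable {ι κ : Type} [Fintype κ] [DecidableEq κ] {Φ : RootSys ι κ} {F : Type*} [Field F]
  {G : Type*} [Group G] {G₀ : Type*} [Group G₀]

/-- the precise conjugation rule in rank one -/
def NRule (S : StSys Φ F G) : Prop :=
  ∀ i c u, c ≠ 0 →
    S.n (Φ.simple i) c * S.x (Φ.neg (Φ.simple i)) u * (S.n (Φ.simple i) c)⁻¹ = S.x (Φ.simple i) (-(c ^ 2) * u) ∧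
    S.n (Φ.simple i) c * S.x (Φ.simple i) u * (S.n (Φ.simple i) c)⁻¹ = S.x (Φ.neg (Φ.simple i)) (-(c⁻¹ ^ 2) * u)

theorem NRule.of_map {S : StSys Φ F G} {S₀ : StSys Φ F G₀} (θ : G →* G₀) (hθ : ∀ r t, θ (S.x r t) = S₀.x r t)
    (hS : S₀.Nondeg) (h : NRule S₀) : NRule S := by
  intro i c u hc
  have ha := S.acts_n_simple i hc
  constructor
  · have := conj_x_of_map θ hθ hS ha (s := Φ.neg (Φ.simple i)) (t := u) (t' := -(c ^ 2) * u)
      (by rw [map_n θ hθ, Φ.s_neg_simple]; exact (h i c u hc).1)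
    rwa [Φ.s_neg_simple] at this
  · have := conj_x_of_map θ hθ hS ha (s := Φ.simple i) (t := u) (t' := -(c⁻¹ ^ 2) * u)
      (by rw [map_n θ hθ, Φ.s_simple]; exact (h i c u hc).2)
    rwa [Φ.s_simple] at this

namespace NRule

variable {S : StSys Φ F G} (hN : NRule S) (i : κ)
include hN

theorem n_eq {c : F} (hc : c ≠ 0) : S.n (Φ.simple i) c =
    S.x (Φ.neg (Φ.simple i)) (-c⁻¹) * S.x (Φ.simple i) c * S.x (Φ.neg (Φ.simple i)) (-c⁻¹) := by
  have h1 := (hN i c c hc).2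
  have h2 := (hN i c (-c⁻¹) hc).1
  rw [show -(c⁻¹ ^ 2) * c = -c⁻¹ by field_simp] at h1
  rw [show -(c ^ 2) * -c⁻¹ = c by field_simp] at h2
  calc S.n (Φ.simple i) c = S.n (Φ.simple i) c * (S.x (Φ.simple i) c * S.x (Φ.neg (Φ.simple i)) (-c⁻¹) *
        S.x (Φ.simple i) c) * (S.n (Φ.simple i) c)⁻¹ := by rw [← StSys.n]; group
    _ = (S.n (Φ.simple i) c * S.x (Φ.simple i) c * (S.n (Φ.simple i) c)⁻¹) *
        (S.n (Φ.simple i) c * S.x (Φ.neg (Φ.simple i)) (-c⁻¹) * (S.n (Φ.simple i) c)⁻¹) *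
        (S.n (Φ.simple i) c * S.x (Φ.simple i) c * (S.n (Φ.simple i) c)⁻¹) := by group
    _ = _ := by rw [h1, h2]

theorem h_mul_h_one_sub {t : F} (h0 : t ≠ 0) (h1 : 1 - t ≠ 0) :
    S.h (Φ.simple i) t * S.h (Φ.simple i) (1 - t) = S.h (Φ.simple i) (t * (1 - t)) := by
  obtain ⟨u, hu⟩ : ∃ u, u = 1 - t := ⟨_, rfl⟩
  rw [← hu] at h1 ⊢
  have e1 := hN.n_eq i (c := -1) (by simp)
  have e2 := (hN i t 1 h0).1
  have e3 := (hN i (-u) 1 (neg_ne_zero.2 h1)).1
  rw [S.n_neg, inv_inv] at e3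
  simp only [inv_neg, inv_one, neg_neg] at e1
  generalize Φ.simple i = p at *
  suffices h : S.n p t * S.n p (-1) * S.n p u = S.n p (t * u) by
    simp only [StSys.h]; rw [← h]; group
  calc S.n p t * S.n p (-1) * S.n p u
      = (S.n p t * S.x (Φ.neg p) 1 * (S.n p t)⁻¹) * S.n p t * S.x p (-1) * S.n p u *
          ((S.n p u)⁻¹ * S.x (Φ.neg p) 1 * S.n p u) := by rw [e1]; group
    _ = (S.x p (-(t ^ 2) * 1) * S.x p t) * S.x (Φ.neg p) (-t⁻¹) * (S.x p t * S.x p (-1) * S.x p u) * S.x (Φ.neg p) (-u⁻¹) *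
          (S.x p u * S.x p (-((-u) ^ 2) * 1)) := by rw [e2, e3]; simp only [StSys.n]; group
    _ = _ := by
      simp only [← S.x_add]
      rw [show t + -1 + u = 0 by rw [hu]; ring, S.x_zero, mul_one, mul_assoc (S.x p _), ← S.x_add, StSys.n,
        show -(t ^ 2) * 1 + t = t * u by rw [hu]; ring, show u + -((-u) ^ 2) * 1 = t * u by rw [hu]; ring,
        show -t⁻¹ + -u⁻¹ = -(t * u)⁻¹ by field_simp; rw [hu]; ring]

theorem h_conj_n {a : F} (ha : a ≠ 0) (v : F) :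
    S.h (Φ.simple i) a * S.n (Φ.simple i) v * (S.h (Φ.simple i) a)⁻¹ = S.n (Φ.simple i) (a ^ 2 * v) := by
  have h1 : ∀ u, S.h (Φ.simple i) a * S.x (Φ.simple i) u * (S.h (Φ.simple i) a)⁻¹ = S.x (Φ.simple i) (a ^ 2 * u) := by
    intro u
    calc _ = S.n (Φ.simple i) a * (S.n (Φ.simple i) (-1) * S.x (Φ.simple i) u * (S.n (Φ.simple i) (-1))⁻¹) *
          (S.n (Φ.simple i) a)⁻¹ := by rw [StSys.h]; group
      _ = _ := by rw [(hN i _ u (by simp)).2, (hN i a _ ha).1]; congr 1; simp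
  have h2 : ∀ u, S.h (Φ.simple i) a * S.x (Φ.neg (Φ.simple i)) u * (S.h (Φ.simple i) a)⁻¹ =
      S.x (Φ.neg (Φ.simple i)) (a⁻¹ ^ 2 * u) := by
    intro u
    calc _ = S.n (Φ.simple i) a * (S.n (Φ.simple i) (-1) * S.x (Φ.neg (Φ.simple i)) u * (S.n (Φ.simple i) (-1))⁻¹) *
          (S.n (Φ.simple i) a)⁻¹ := by rw [StSys.h]; group
      _ = _ := by rw [(hN i _ u (by simp)).1, (hN i a _ ha).2]; congr 1; simp
  rw [StSys.n, StSys.n, ← h1, show -(a ^ 2 * v)⁻¹ = a⁻¹ ^ 2 * -v⁻¹ by rw [mul_inv, inv_pow]; ring, ← h2]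
  group

end NRule

theorem exists_nonsquare_pair [Finite F] {t : F} (ht : ¬ IsSquare t) : ∃ a : F, ¬ IsSquare a ∧ ¬ IsSquare (1 - a) := by
  classical
  by_contra h
  push Not at h
  have := Fintype.ofFinite F
  have ht0 : t ≠ 0 := by rintro rfl; exact ht IsSquare.zero
  let N := Finset.univ.filter fun a : F => ¬ IsSquare a
  let Q := Finset.univ.filter fun a : F => IsSquare a ∧ a ≠ 0
  have h1 : Q.card ≤ N.card := by
    refine Finset.card_le_card_of_injOn (fun a => t * a) (fun a ha => ?_) fun a _ b _ e => mul_left_cancel₀ ht0 e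
    simp only [Q, N, Finset.coe_filter, Finset.mem_univ, true_and, Set.mem_ofPred_eq] at ha ⊢
    rintro ⟨c, hc⟩
    obtain ⟨⟨d, rfl⟩, hd⟩ := ha
    have hd0 : d ≠ 0 := by rintro rfl; simp at hd
    exact ht ⟨c / d, by field_simp; linear_combination hc⟩
  have h2 : N.card ≤ (Q.erase 1).card := by
    refine Finset.card_le_card_of_injOn (fun a => 1 - a) (fun a ha => ?_) fun a _ b _ e => sub_right_injective e
    simp only [Q, N, Finset.coe_filter, Finset.mem_univ, true_and, Set.mem_ofPred_eq, Finset.coe_erase,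
      Set.mem_sdiff, Set.mem_singleton_iff] at ha ⊢
    refine ⟨⟨h a ha, fun e => ha ?_⟩, fun e => ha ?_⟩
    · rw [show a = 1 by linear_combination -e]; exact IsSquare.one
    · rw [show a = 0 by linear_combination -e]; exact IsSquare.zero
  have h3 : (1 : F) ∈ Q := by simp [Q]
  have := Finset.card_erase_lt_of_mem h3
  omega

theorem exists_sq_mul [Finite F] {t a : F} (ht : ¬ IsSquare t) (ha : ¬ IsSquare a) : ∃ c, c ≠ 0 ∧ t = c ^ 2 * a := by
  classical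
  have := Fintype.ofFinite F
  have ha0 : a ≠ 0 := by rintro rfl; exact ha IsSquare.zero
  have ht0 : t ≠ 0 := by rintro rfl; exact ht IsSquare.zero
  have h1 : quadraticChar F (t * a) = 1 := by
    rw [map_mul, quadraticChar_neg_one_iff_not_isSquare.2 ht, quadraticChar_neg_one_iff_not_isSquare.2 ha]; norm_num
  obtain ⟨c, hc⟩ := (quadraticChar_one_iff_isSquare (mul_ne_zero ht0 ha0)).1 h1
  have hc0 : c ≠ 0 := by rintro rfl; simp [ht0, ha0] at hc
  exact ⟨c / a, div_ne_zero hc0 ha0, by field_simp; linear_combination hc⟩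

/-- a group-theoretic form of the vanishing of Steinberg symbols over a finite field -/
theorem mul_of_symbol [Finite F] (h : F → G)
    (hc : ∀ t u, t ≠ 0 → u ≠ 0 → ∃ z ∈ Subgroup.centralizer (h '' {t | t ≠ 0}), h (t * u) = z * h t * h u)
    (h1 : h 1 = 1) (hsq : ∀ a v, a ≠ 0 → v ≠ 0 → h a * h v * (h a)⁻¹ = h (a ^ 2 * v) * (h (a ^ 2))⁻¹)
    (hs : ∀ t, t ≠ 0 → 1 - t ≠ 0 → h t * h (1 - t) = h (t * (1 - t))) {t u : F} (ht : t ≠ 0) (hu : u ≠ 0) :
    h t * h u = h (t * u) := by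
  obtain ⟨g, hg⟩ := IsCyclic.exists_monoid_generator (α := Fˣ)
  have hpow : ∀ n : ℕ, ∃ z ∈ Subgroup.centralizer (h '' {t | t ≠ 0}), h ((g : F) ^ n) = z * h g ^ n := by
    intro n
    induction n with
    | zero => exact ⟨1, one_mem _, by simp [h1]⟩
    | succ n ih =>
      obtain ⟨z, hz, e⟩ := ih
      obtain ⟨z', hz', e'⟩ := hc ((g : F) ^ n) g (pow_ne_zero _ g.ne_zero) g.ne_zero
      exact ⟨z' * z, mul_mem hz' hz, by rw [pow_succ, e', e, pow_succ]; group⟩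
  have hcomm : ∀ a b : F, a ≠ 0 → b ≠ 0 → h a * h b = h b * h a := by
    intro a b ha hb
    obtain ⟨n, hn⟩ := hg (Units.mk0 a ha)
    obtain ⟨z, hz, e⟩ := hpow n
    have hn' : (g : F) ^ n = a := by simpa using congrArg Units.val hn
    obtain ⟨m, hm⟩ := hg (Units.mk0 b hb)
    obtain ⟨z', hz', e'⟩ := hpow m
    have hm' : (g : F) ^ m = b := by simpa using congrArg Units.val hm
    rw [hn'] at e
    rw [hm'] at e'
    have c1 : Commute (h b) z := Subgroup.mem_centralizer_iff.1 hz _ ⟨b, hb, rfl⟩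
    have c2 : Commute (h g) z' := Subgroup.mem_centralizer_iff.1 hz' _ ⟨g, g.ne_zero, rfl⟩
    have c3 : Commute (h g ^ n) (h b) := by
      rw [e']; exact (c2.pow_left n).mul_right ((Commute.refl _).pow_pow _ _)
    rw [e]
    exact (c1.symm.mul_left c3).eq
  have hsq' : ∀ a v, a ≠ 0 → v ≠ 0 → h (a ^ 2 * v) = h (a ^ 2) * h v := by
    intro a v ha hv
    have := hsq a v ha hv
    rw [hcomm a v ha hv, mul_inv_cancel_right, eq_mul_inv_iff_mul_eq] at this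
    rw [← this, hcomm _ _ hv (pow_ne_zero _ ha)]
  by_cases h2 : IsSquare t
  · obtain ⟨a, rfl⟩ := h2
    rw [← sq, hsq' a u (left_ne_zero_of_mul ht) hu]
  by_cases h3 : IsSquare u
  · obtain ⟨a, rfl⟩ := h3
    rw [hcomm _ _ ht hu, mul_comm t, ← sq, hsq' a t (left_ne_zero_of_mul hu) ht]
  obtain ⟨a, ha, ha'⟩ := exists_nonsquare_pair h2
  have ha0 : a ≠ 0 := by rintro rfl; exact ha IsSquare.zero
  have ha1 : 1 - a ≠ 0 := fun e => ha' (e ▸ IsSquare.zero)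
  obtain ⟨c, hc0, rfl⟩ := exists_sq_mul h2 ha
  obtain ⟨d, hd0, rfl⟩ := exists_sq_mul h3 ha'
  rw [hsq' c a hc0 ha0, hsq' d _ hd0 ha1, show c ^ 2 * a * (d ^ 2 * (1 - a)) = c ^ 2 * (d ^ 2 * (a * (1 - a))) by ring,
    hsq' c _ hc0 (mul_ne_zero (pow_ne_zero _ hd0) (mul_ne_zero ha0 ha1)), hsq' d _ hd0 (mul_ne_zero ha0 ha1),
    ← hs a ha0 ha1, mul_assoc, ← mul_assoc (h a), hcomm a _ ha0 (pow_ne_zero _ hd0), mul_assoc]

theorem r3_of_simple {S : StSys Φ F G} (h : ∀ i c d, c ≠ 0 → d ≠ 0 →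
    S.h (Φ.simple i) c * S.h (Φ.simple i) d = S.h (Φ.simple i) (c * d)) : R3 S := by
  intro r
  obtain ⟨w, hw, i, rfl⟩ := Φ.exists_eq_apply_simple r
  obtain ⟨g, -, ha⟩ := S.exists_acts hw
  obtain ⟨l, hl, e⟩ := exists_conj_h ha hw (Φ.simple i)
  have e1 : S.h (w (Φ.simple i)) l = g * S.h (Φ.simple i) l * g⁻¹ := by
    have h1 := e l⁻¹
    rw [mul_inv_cancel₀ hl, S.h_one, one_mul] at h1
    have h2 := h i l⁻¹ l (inv_ne_zero hl) hl
    rw [inv_mul_cancel₀ hl, S.h_one] at h2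
    rw [← inv_inj, ← h1, eq_inv_of_mul_eq_one_left h2]; group
  have e2 : ∀ c, c ≠ 0 → S.h (w (Φ.simple i)) c = g * S.h (Φ.simple i) c * g⁻¹ := by
    intro c hc
    have h1 := e (l⁻¹ * c)
    rw [mul_inv_cancel_left₀ hl, e1, eq_mul_inv_iff_mul_eq] at h1
    have h2 := h i (l⁻¹ * c) l (mul_ne_zero (inv_ne_zero hl) hc) hl
    rw [show l⁻¹ * c * l = c by field_simp] at h2
    rw [← h1, ← h2]; group
  intro c d hc hd
  rw [e2 c hc, e2 d hd, e2 _ (mul_ne_zero hc hd), ← h i c d hc hd]; group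

/-- over a finite field (R3) lifts from the model -/
theorem r3_of_finite [Finite ι] [Finite F] {S : StSys Φ F G} {S₀ : StSys Φ F G₀} (θ : G →* G₀)
    (hθ : ∀ r t, θ (S.x r t) = S₀.x r t) (hS : S₀.Nondeg) (hN : NRule S₀) (h3 : R3 S₀) : R3 S := by
  have hN' := hN.of_map θ hθ hS
  refine r3_of_simple fun i c d hc hd => mul_of_symbol (S.h (Φ.simple i)) (fun t u ht hu => ?_) (S.h_one _)
    (fun a v ha hv => ?_) (fun t => hN'.h_mul_h_one_sub i) hc hd
  · refine ⟨S.h (Φ.simple i) (t * u) * (S.h (Φ.simple i) t * S.h (Φ.simple i) u)⁻¹, ?_, by group⟩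
    rw [Subgroup.mem_centralizer_iff]
    rintro _ ⟨a, -, rfl⟩
    refine (commute_of_map_eq_one θ hθ hS
      (mul_mem (S.h_mem_grp _ _) (inv_mem (mul_mem (S.h_mem_grp _ _) (S.h_mem_grp _ _)))) ?_ (S.h_mem_grp _ _)).symm
    simp only [map_mul, map_inv, map_h θ hθ]
    rw [h3 _ _ _ ht hu, mul_inv_cancel]
  · rw [S.h_eq _ v, S.h_eq _ (a ^ 2 * v), S.h_eq _ (a ^ 2), ← hN'.h_conj_n i ha v, ← mul_one (a ^ 2),
      ← hN'.h_conj_n i ha 1]
    group

end CfsgLib.Stein
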